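import Mathlib
import Groth.Agent.DvrFlatLib.ReducedScheme
import Groth.Agent.EquidimLib.GeomReduced
import Groth.Agent.EquidimLib.DimCriteria
import Groth.Agent.S3404
import Groth.Agent.S3409

/-!
# Geometrically integral fibres and universally open morphisms
-/

set_option autoImplicit false
universe u

open CategoryTheory CategoryTheory.Limits AlgebraicGeometry IsLocalRing TopologicalSpace Topology

namespace GeomIntLib

open EquidimLib UOpenLib

/-- Geometric integrality of the fibre at a point gives integrality of the fibre of a base change. -/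
theorem isDomain_fiber_baseChange {X Y : Scheme.{u}} (f : X ⟶ Y) (x : X)
    (hred : FBase.IsGeomPtIntegralAt (f.fiberToSpecResidueField (f x)) (f.asFiber x))
    {P Y' : Scheme.{u}} {p : P ⟶ X} {b : P ⟶ Y'} {g : Y' ⟶ Y} (sq : IsPullback p b f g)
    (x' : P) (hx' : p x' = x) :
    IsDomain ((b.fiber (b x')).presheaf.stalk (b.asFiber x')) := by
  let y' := b x'
  have hy : g y' = f x := by
    show g (b x') = f x
    rw [← hx', ← Scheme.Hom.comp_apply, ← sq.w, Scheme.Hom.comp_apply]
  have key : ∀ (y : Y), y = f x → ∀ a : ↥(f.fiber y), f.fiberι y a = x →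
      FBase.IsGeomPtIntegralAt (f.fiberToSpecResidueField y) a := by
    rintro _ rfl a ha
    obtain rfl : a = f.asFiber x := (f.fiberι (f x)).isEmbedding.injective (by rw [ha, f.fiberι_asFiber])
    exact hred
  have h := isPullback_fiberToSpecResidueField_of_isPullback sq y'
  let π : b.fiber y' ⟶ f.fiber (g y') :=
    pullback.map _ _ _ _ p (Spec.map (g.residueFieldMap y')) g sq.w.symm (by simp)
  have hπ : π ≫ f.fiberι (g y') = b.fiberι y' ≫ p := pullback.lift_fst _ _ _
  let a := π (b.asFiber x')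
  have ha : f.fiberι (g y') a = x := by
    show f.fiberι (g y') (π (b.asFiber x')) = x
    rw [← Scheme.Hom.comp_apply, hπ, Scheme.Hom.comp_apply, b.fiberι_asFiber, hx']
  letI : Algebra (IsLocalRing.ResidueField ↑(Y.presheaf.stalk (g y'))) ↑(Y'.residueField y') :=
    (g.residueFieldMap y').hom.toAlgebra
  let e : b.fiber y' ≅ FBase.bc (f.fiberToSpecResidueField (g y')) (Y'.residueField y') := h.isoPullback
  have he : FBase.bcπ (f.fiberToSpecResidueField (g y')) _ (e.hom (b.asFiber x')) = a := by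
    exact congrArg (fun φ : b.fiber y' ⟶ f.fiber (g y') ↦ φ (b.asFiber x')) h.isoPullback_hom_fst
  haveI := key _ hy a ha _ _ he
  exact (ConcreteCategory.bijective_of_isIso (inv (e.hom.stalkMap (b.asFiber x')))).1.isDomain

/-- A flat local algebra over a principal ideal domain with integral closed fibre is a domain. -/
theorem isDomain_of_flat_of_isPrime {A S : Type u} [CommRing A] [IsDomain A] [IsPrincipalIdealRing A]
    [IsLocalRing A] [CommRing S] [IsLocalRing S] [IsNoetherianRing S] [Algebra A S] [Module.Flat A S]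
    [((maximalIdeal A).map (algebraMap A S)).IsPrime] : IsDomain S := by
  obtain ⟨t, ht⟩ := (IsPrincipalIdealRing.principal (maximalIdeal A)).principal
  have hI : (maximalIdeal A).map (algebraMap A S) = Ideal.span {algebraMap A S t} := by
    rw [ht, ← Ideal.span, Ideal.map_span, Set.image_singleton]
  have hP : (Ideal.span {algebraMap A S t}).IsPrime := hI ▸ inferInstance
  by_cases h0 : t = 0
  · rw [h0, map_zero, Ideal.span_singleton_zero] at hP
    exact IsDomain.of_bot_isPrime S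
  have hreg : IsSMulRegular S (algebraMap A S t) := by
    intro a b hab
    exact (Module.Flat.isSMulRegular_of_nonZeroDivisors (M := S) (mem_nonZeroDivisors_of_ne_zero h0))
      (show t • a = t • b by rw [Algebra.smul_def, Algebra.smul_def]; exact hab)
  obtain ⟨p, hp, hple⟩ := Ideal.exists_minimalPrimes_le (J := Ideal.span {algebraMap A S t}) (I := (⊥ : Ideal S)) bot_le
  have hpp : p.IsPrime := hp.1.1
  have hτp : algebraMap A S t ∉ p := fun hτ => Set.disjoint_left.mp
    (Ideal.disjoint_nonZeroDivisors_of_mem_minimalPrimes (show p ∈ minimalPrimes S from hp)) hτ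
    (mem_nonZeroDivisors_iff_right.mpr fun a ha => hreg (show algebraMap A S t * a = algebraMap A S t * 0 by
      rw [mul_zero, mul_comm]; exact ha))
  have hle : p ≤ Ideal.span {algebraMap A S t} • p := by
    intro a ha
    obtain ⟨c, rfl⟩ := Ideal.mem_span_singleton'.mp (hple ha)
    rw [mul_comm, ← smul_eq_mul]
    exact Submodule.smul_mem_smul (Ideal.mem_span_singleton_self _) ((hpp.mem_or_mem ha).resolve_right hτp)
  have : p = ⊥ := Submodule.eq_bot_of_le_smul_of_le_jacobson_bot _ _ (IsNoetherian.noetherian p) hle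
    (by rw [IsLocalRing.jacobson_eq_maximalIdeal _ bot_ne_top]; exact le_maximalIdeal hP.ne_top)
  subst this
  exact IsDomain.of_bot_isPrime S

/-- The ideal of an integral fibre is prime. -/
theorem isPrime_map_maximalIdeal {X Y : Scheme.{u}} (f : X ⟶ Y) (x : X)
    [IsDomain ((f.fiber (f x)).presheaf.stalk (f.asFiber x))] :
    ((maximalIdeal (Y.presheaf.stalk (f x))).map (f.stalkMap x).hom).IsPrime := by
  have key : ∀ (w : X), w = x →
      ∀ ψ : X.presheaf.stalk w →+* (f.fiber (f x)).presheaf.stalk (f.asFiber x),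
      RingHom.ker ψ = (maximalIdeal (Y.presheaf.stalk (f w))).map (f.stalkMap w).hom →
      ((maximalIdeal (Y.presheaf.stalk (f x))).map (f.stalkMap x).hom).IsPrime := by
    rintro w hw ψ hψ
    subst hw
    rw [← hψ]
    exact RingHom.ker_isPrime ψ
  exact key _ (f.fiberι_asFiber x) _ (Groth.Agent.S9501.result f (f x) (f.asFiber x)).2

/-- Over a discrete valuation ring, flatness and an integral fibre give an integral local ring. -/
theorem isDomain_stalk_dvr {A : Type u} [CommRing A] [IsDomain A] [IsDiscreteValuationRing A]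
    {P : Scheme.{u}} (b : P ⟶ Spec (CommRingCat.of A)) [LocallyOfFiniteType b] (x : P)
    [IsDomain ((b.fiber (b x)).presheaf.stalk (b.asFiber x))]
    (hflat : (b.stalkMap x).hom.Flat) : IsDomain (P.presheaf.stalk x) := by
  haveI : IsLocallyNoetherian P := LocallyOfFiniteType.isLocallyNoetherian b
  let Y := Spec (CommRingCat.of A)
  let εA : Γ(Y, ⊤) ≃+* A := (Scheme.ΓSpecIso (CommRingCat.of A)).commRingCatIsoToRingEquiv
  haveI : IsDomain Γ(Y, ⊤) := MulEquiv.isDomain _ εA.toMulEquiv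
  haveI : IsPrincipalIdealRing Γ(Y, ⊤) := IsPrincipalIdealRing.of_surjective εA.symm εA.symm.surjective
  letI : Algebra Γ(Y, ⊤) (Y.presheaf.stalk (b x)) := (Y.presheaf.germ ⊤ (b x) trivial).hom.toAlgebra
  haveI : IsLocalization.AtPrime (Y.presheaf.stalk (b x))
      ((isAffineOpen_top Y).primeIdealOf ⟨b x, trivial⟩).asIdeal :=
    (isAffineOpen_top Y).isLocalization_stalk ⟨b x, trivial⟩
  haveI : IsDomain (Y.presheaf.stalk (b x)) := IsLocalization.isDomain_of_le_nonZeroDivisors _
    ((isAffineOpen_top Y).primeIdealOf ⟨b x, trivial⟩).asIdeal.primeCompl_le_nonZeroDivisors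
  haveI : IsPrincipalIdealRing (Y.presheaf.stalk (b x)) := ⟨fun J ↦ by
    obtain ⟨a, ha⟩ := IsPrincipalIdealRing.principal (J.comap (algebraMap Γ(Y, ⊤) (Y.presheaf.stalk (b x))))
    refine ⟨algebraMap Γ(Y, ⊤) _ a, ?_⟩
    rw [← IsLocalization.map_comap ((isAffineOpen_top Y).primeIdealOf ⟨b x, trivial⟩).asIdeal.primeCompl
      (Y.presheaf.stalk (b x)) J]
    rw [show Ideal.under Γ(Y, ⊤) J = _ from ha]
    erw [Ideal.map_span, Set.image_singleton]⟩
  letI : Algebra (Y.presheaf.stalk (b x)) (P.presheaf.stalk x) := (b.stalkMap x).hom.toAlgebra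
  haveI : Module.Flat (Y.presheaf.stalk (b x)) (P.presheaf.stalk x) := hflat
  haveI : IsLocalHom (algebraMap (Y.presheaf.stalk (b x)) (P.presheaf.stalk x)) := b.toLRSHom.prop x
  haveI := isPrime_map_maximalIdeal b x
  exact isDomain_of_flat_of_isPrime (A := Y.presheaf.stalk (b x))

/-- Two generizations in an integral local ring have a common one. -/
theorem eq_of_isDomain {X : Scheme.{u}} (x : X) [IsDomain (X.presheaf.stalk x)] {a : X}
    (ha : ∀ w : X, w ⤳ a → w = a) (hax : a ⤳ x) : a = stalkPt x ⟨⊥, Ideal.isPrime_bot⟩ := by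
  obtain ⟨q, rfl⟩ := exists_stalkPt hax
  exact (ha _ (specializes_stalkPt bot_le)).symm

variable {X Y : Scheme.{u}}

theorem isDomain_fiber_stalk (f : X ⟶ Y) (x : X)
    (hint : FBase.IsGeomPtIntegralAt (f.fiberToSpecResidueField (f x)) (f.asFiber x)) :
    IsDomain ((f.fiber (f x)).presheaf.stalk (f.asFiber x)) :=
  isDomain_fiber_baseChange f x hint (IsPullback.of_id_fst (f := f)) x rfl

theorem isGeomReducedAt_of_integral (f : X ⟶ Y) (x : X)
    (hint : FBase.IsGeomPtIntegralAt (f.fiberToSpecResidueField (f x)) (f.asFiber x)) :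
    FBase.IsGeomReducedAt (f.fiberToSpecResidueField (f x)) (f.asFiber x) := fun K _ _ x' hx' ↦
  haveI := hint K x' hx'
  inferInstance

/-- Only one component of the fibre passes through the point. -/
theorem eq_of_fibreMax [IsLocallyNoetherian Y] (f : X ⟶ Y) [LocallyOfFiniteType f] (x : X) [IsDomain ((f.fiber (f x)).presheaf.stalk (f.asFiber x))]
    {z z' : X} (hz : f z = f x) (hzx : z ⤳ x) (hzm : IsFibreMax f z)
    (hz' : f z' = f x) (hzx' : z' ⤳ x) (hzm' : IsFibreMax f z') : z = z' := by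
  obtain ⟨w, hw, hwx, hwm⟩ := exists_asFiber_of_specializes f x z hz hzx hzm
  obtain ⟨w', hw', hwx', hwm'⟩ := exists_asFiber_of_specializes f x z' hz' hzx' hzm'
  rw [← hw, ← hw', eq_of_isDomain (f.asFiber x) (fun v hv ↦ hwm v hv.mem_closure)
    (specializes_iff_mem_closure.mpr hwx), eq_of_isDomain (f.asFiber x) (fun v hv ↦ hwm' v hv.mem_closure)
    (specializes_iff_mem_closure.mpr hwx')]

/-- A component through the point contains the component of the fibre, and is universally open there. -/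
theorem component_open [IsLocallyNoetherian Y] (f : X ⟶ Y) [LocallyOfFiniteType f] (x : X)
    [IsDomain ((f.fiber (f x)).presheaf.stalk (f.asFiber x))]
    (hy : CAlg2.IsGeomUnibranch (Y.presheaf.stalk (f x))) (h : EGA43.IsEquidimAt f x)
    {z : X} (hz : f z = f x) (hzx : z ⤳ x) (hzm : IsFibreMax f z)
    {ξ : X} (hξ : closure {ξ} ∈ irreducibleComponents (X : Type u)) (hξx : ξ ⤳ x)
    {Z : Scheme.{u}} (j : Z ⟶ X) [IsClosedImmersion j] (hrange : Set.range j.base = closure {ξ}) :
    ∃ z₀ : Z, j z₀ = z ∧ EGA43.IsUnivOpenAt (j ≫ f) z₀ := by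
  have : IsLocallyNoetherian X := LocallyOfFiniteType.isLocallyNoetherian f
  obtain ⟨e, U, hU⟩ := (isEquidimAt_iff f x).mp h
  have hd := hU.fibreDimAt_eq f hU.mem
  have hξd := hU.dim ξ (hξx.mem_open U.isOpen hU.mem) (isFibreMax_of_max f hξ)
  have : IsLocallyNoetherian Z := LocallyOfFiniteType.isLocallyNoetherian j
  obtain ⟨x₀, hx₀⟩ : x ∈ Set.range j.base := hrange ▸ hξx.mem_closure
  obtain ⟨ξ₀, hξ₀⟩ : ξ ∈ Set.range j.base := hrange ▸ subset_closure rfl
  have hsp : ∀ {a b}, j.base a ⤳ j.base b → a ⤳ b := fun h ↦ j.isEmbedding.isInducing.specializes_iff.mp h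
  obtain ⟨z₀, hz₀, hz₀x, hz₀max, hz₀d⟩ := exists_max_fibreDimAt (j ≫ f) x₀
  have hz'x : j.base z₀ ⤳ x := hx₀ ▸ hz₀x.map j.continuous
  have hfz : f.base (j.base z₀) = f.base x := by rw [← hx₀]; exact hz₀
  have hξz : ξ ⤳ j.base z₀ := specializes_iff_mem_closure.mpr (hrange ▸ ⟨z₀, rfl⟩)
  have hze : (e : WithBot ℕ∞) ≤ fibreClosureDim f (j.base z₀) := by
    have h1 := fibreClosureDim_le_fibreDimAt (j ≫ f) (hsp (hξ₀.symm ▸ hx₀.symm ▸ hξx) : ξ₀ ⤳ x₀)
    rw [← hz₀d, fibreClosureDim_closedImmersion, fibreClosureDim_closedImmersion, hξ₀, hξd] at h1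
    exact h1
  have hzmax : IsFibreMax f (j.base z₀) := by
    intro z' hz' hsp'
    have hsp' : z' ⤳ j.base z₀ := specializes_iff_mem_closure.mpr hsp'
    by_contra hne
    have h1 := FibDimLib.fibreClosureDim_lt f hsp' hne hz'
    have h2 := fibreClosureDim_le_fibreDimAt f (hsp'.trans hz'x)
    rw [hd] at h2
    exact absurd (hze.trans_lt h1) (not_lt.mpr h2)
  refine ⟨z₀, eq_of_fibreMax f x hfz hz'x hzmax hz hzx hzm, ?_⟩
  refine isUnivOpenAt_of_unibranch (j ≫ f) z₀ ?_ (hsp (hξ₀.symm ▸ hξz) : ξ₀ ⤳ z₀) ?_ ?_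
  · rw [show (j ≫ f).base z₀ = f.base x from hfz]; exact hy
  · rw [Scheme.Hom.comp_apply, hξ₀]; exact (hU.max ξ (hξx.mem_open U.isOpen hU.mem) hξ).1
  · rw [fibreDimAt_eq_of_max (j ≫ f) hz₀max, fibreClosureDim_closedImmersion, fibreClosureDim_closedImmersion,
      hξ₀, hξd]
    exact (fibreClosureDim_le_fibreDimAt f hz'x).trans hd.le

/-- The lift of a component to a base change over a discrete valuation ring. -/
theorem lift_component [IsLocallyNoetherian Y] (f : X ⟶ Y) [LocallyOfFiniteType f]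
    {A : Type u} [CommRing A] [IsDomain A] [IsDiscreteValuationRing A] {P : Scheme.{u}}
    {p : P ⟶ X} {b : P ⟶ Spec (CommRingCat.of A)} {g : Spec (CommRingCat.of A) ⟶ Y}
    (sq : IsPullback p b f g) (w : P) {Z : Scheme.{u}} (j : Z ⟶ X) [IsClosedImmersion j] {z₀ : Z}
    (hz₀ : p w = j z₀) (hopen : EGA43.IsUnivOpenAt (j ≫ f) z₀) {ξ₀ : Z} (hξ₀ : ∀ v : Z, ξ₀ ⤳ v)
    {η : ↥(Spec (CommRingCat.of A))} (hη : η ⤳ b w) (hgη : g η = f (j ξ₀)) :
    ∃ v : P, v ⤳ w ∧ p v = j ξ₀ := by
  obtain ⟨w₀, hw₀, hw₁⟩ := Scheme.Pullback.exists_preimage_pullback (f := p) (g := j) w z₀ hz₀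
  let q := pullback.fst p j
  let r := pullback.snd p j
  have sq' : IsPullback r (q ≫ b) (j ≫ f) g := (IsPullback.of_hasPullback p j).flip.paste_vert sq
  have hbw : (q ≫ b) w₀ = b w := by rw [Scheme.Hom.comp_apply, hw₀]
  obtain ⟨v₁, hv₁, hv₁'⟩ := (Groth.Agent.S3404.result (q ≫ b) w₀).1
    (IsUnivOpenAt.isOpenAt hopen sq' w₀ hw₁) η (hbw ▸ hη)
  haveI : LocallyOfFiniteType (q ≫ b) := MorphismProperty.of_isPullback sq' inferInstance
  obtain ⟨v₂, hv₂, hv₂v, hv₂max, -⟩ := exists_max_fibreDimAt (q ≫ b) v₁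
  refine ⟨q v₂, hw₀ ▸ (hv₂v.trans hv₁).map q.continuous, ?_⟩
  have hrmax : IsFibreMax (j ≫ f) (r v₂) := isFibreMax_fst sq' hv₂max
  have hfr : (j ≫ f) ξ₀ = (j ≫ f) (r v₂) := by
    rw [← Scheme.Hom.comp_apply r, sq'.w, Scheme.Hom.comp_apply, Scheme.Hom.comp_apply, hv₂, hv₁', hgη]
  have hrv : r v₂ = ξ₀ := (hrmax ξ₀ hfr (hξ₀ _).mem_closure).symm
  rw [← Scheme.Hom.comp_apply, pullback.condition, Scheme.Hom.comp_apply]
  exact congrArg _ hrv

/-- Exactly one component passes through the point. -/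
theorem eq_of_components [IsLocallyNoetherian Y] (f : X ⟶ Y) [LocallyOfFiniteType f] (x : X)
    (hopen : ∀ z : ↥(f.fiber (f x)), f.asFiber x ∈ closure {z} →
      (∀ z' : ↥(f.fiber (f x)), z ∈ closure {z'} → z' = z) →
      EGA43.IsUnivOpenAt f ((f.fiberι (f x)) z))
    (hint : FBase.IsGeomPtIntegralAt (f.fiberToSpecResidueField (f x)) (f.asFiber x))
    (hy : CAlg2.IsGeomUnibranch (Y.presheaf.stalk (f x))) (h : EGA43.IsEquidimAt f x)
    {ξ ξ' : X} (hξ : closure {ξ} ∈ irreducibleComponents (X : Type u)) (hξx : ξ ⤳ x)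
    (hξ' : closure {ξ'} ∈ irreducibleComponents (X : Type u)) (hξ'x : ξ' ⤳ x) : ξ = ξ' := by
  have : IsLocallyNoetherian X := LocallyOfFiniteType.isLocallyNoetherian f
  haveI := isDomain_fiber_stalk f x hint
  have hred := isGeomReducedAt_of_integral f x hint
  obtain ⟨η₀, hηy, hη₀, hall⟩ := exists_generic_of_unibranch hy
  obtain ⟨e, U, hU⟩ := (isEquidimAt_iff f x).mp h
  have hfξ : ∀ {ζ : X}, closure {ζ} ∈ irreducibleComponents (X : Type u) → ζ ⤳ x → f ζ = η₀ :=
    fun {ζ} hζ hζx ↦ (FibDimLib.eq_of_specializes_of_closure_mem (hU.max ζ (hζx.mem_open U.isOpen hU.mem) hζ).1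
      (hall _ (hζx.map f.continuous))).symm
  rcases eq_or_ne η₀ (f x) with hyη | hyη
  · exact eq_of_fibreMax f x ((hfξ hξ hξx).trans hyη) hξx (isFibreMax_of_max f hξ)
      ((hfξ hξ' hξ'x).trans hyη) hξ'x (isFibreMax_of_max f hξ')
  obtain ⟨z, hz, hzx, hzm, -⟩ := exists_max_fibreDimAt f x
  obtain ⟨A, g, hA, hgy, hgA⟩ := DvrDomLib.exists_dvr_through_specialization (𝟙 Y) η₀ (f x) hηy hyη.symm
  haveI := hA
  let SA := Spec (CommRingCat.of A)
  let η : SA := (⟨⊥, Ideal.isPrime_bot⟩ : PrimeSpectrum A)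
  have hη : η ⤳ (IsLocalRing.closedPoint A : SA) := (PrimeSpectrum.le_iff_specializes η _).mp bot_le
  have hgη : g η = η₀ := by
    let w : Spec (Y.residueField η₀) := IsLocalRing.closedPoint _
    have h1 := congrArg (fun q ↦ q.base w) hgA
    simp only [Scheme.Hom.comp_apply, Category.comp_id] at h1
    rw [Y.fromSpecResidueField_apply η₀ w] at h1
    refine Eq.trans ?_ h1
    congr 1
    apply PrimeSpectrum.ext
    show (⊥ : Ideal A) = Ideal.comap A.subtype w.asIdeal
    have : w.asIdeal = ⊥ := IsLocalRing.isField_iff_maximalIdeal_eq.mp (Field.toIsField _)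
    rw [this, ← RingHom.ker_eq_comap_bot, (RingHom.injective_iff_ker_eq_bot _).mp Subtype.val_injective]
  let sq := IsPullback.of_hasPullback f g
  obtain ⟨x', hx', hbx'⟩ := Scheme.Pullback.exists_preimage_pullback (f := f) (g := g) x
    (IsLocalRing.closedPoint A : SA) hgy.symm
  obtain ⟨w, hwx', hpw, hbw⟩ := exists_specializes_fst sq x' (hx'.symm ▸ hzx) (by rw [hx']; exact hz)
  haveI : LocallyOfFiniteType (pullback.snd f g) := MorphismProperty.of_isPullback sq inferInstance
  haveI := isDomain_fiber_baseChange f x hint sq x' hx'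
  haveI := isDomain_stalk_dvr (pullback.snd f g) x'
    (DvrFlatLib.flat_stalkMap_baseChange_dvr f x hopen hred sq x' hx' hbx')
  let m := stalkPt x' ⟨⊥, Ideal.isPrime_bot⟩
  have key : ∀ {ζ : X}, closure {ζ} ∈ irreducibleComponents (X : Type u) → ζ ⤳ x →
      pullback.fst f g m = ζ := by
    intro ζ hζ hζx
    let J := Scheme.IdealSheafData.vanishingIdeal (⟨closure {ζ}, isClosed_closure⟩ : Closeds X)
    let j := J.subschemeι
    have hrange : Set.range j.base = closure {ζ} := by
      rw [J.range_subschemeι, Scheme.IdealSheafData.coe_support_vanishingIdeal]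
      rfl
    obtain ⟨ζ₀, hζ₀⟩ : ζ ∈ Set.range j.base := hrange ▸ subset_closure rfl
    obtain ⟨z₀, hz₀, hz₀open⟩ := component_open f x hy h hz hzx hzm hζ hζx j hrange
    obtain ⟨v, hvw, hv⟩ := lift_component f sq w j (hpw.trans hz₀.symm) hz₀open
      (fun v ↦ j.isEmbedding.isInducing.specializes_iff.mp (by
        rw [hζ₀]; exact specializes_iff_mem_closure.mpr (hrange ▸ ⟨v, rfl⟩)))
      (hη.trans (by rw [hbw, hbx']))
      (by rw [hζ₀, hgη]; exact (hfξ hζ hζx).symm)
    have hmv : m ⤳ v := by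
      obtain ⟨q, rfl⟩ := exists_stalkPt (hvw.trans hwx')
      exact specializes_stalkPt bot_le
    refine FibDimLib.eq_of_specializes_of_closure_mem hζ ?_
    rw [← hζ₀, ← hv]
    exact hmv.map (pullback.fst f g).continuous
  rw [← key hξ hξx, ← key hξ' hξ'x]

end GeomIntLib
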