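import Mathlib
import Groth.Agent.GeomIntLib.Basic
import Groth.Agent.S0658
import Groth.Agent.WeightLib.EtaleQF

/-!
# Étale schemes over geometrically unibranch bases
-/

set_option autoImplicit false
universe u

open CategoryTheory CategoryTheory.Limits AlgebraicGeometry TopologicalSpace Topology

namespace GeomIntLib

open EquidimLib UOpenLib

/-- The local rings of a scheme étale over a field are integral. -/
theorem isDomain_stalk_of_etale_field {k : Type u} [Field k] {U : Scheme.{u}} (φ : U ⟶ Spec (CommRingCat.of k))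
    [Etale φ] (a : U) : IsDomain (U.presheaf.stalk a) := by
  obtain ⟨ι, K, hK, hKa, -, -, e, -⟩ := (Groth.Agent.S0658.result k U φ).mp ‹_›
  obtain ⟨⟨i, w⟩, hw⟩ := ((sigmaMk (fun i => Spec (CommRingCat.of (K i)))).trans
    (Scheme.homeoOfIso e)).surjective a
  rw [Homeomorph.trans_apply, sigmaMk_mk] at hw
  let σ := Sigma.ι (fun i => Spec (CommRingCat.of (K i))) i ≫ e.hom
  have hσ : σ w = a := by rw [Scheme.Hom.comp_apply]; exact hw
  rw [← hσ]
  exact (ConcreteCategory.bijective_of_isIso (σ.stalkMap w)).1.isDomain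

variable {X Y : Scheme.{u}} (f : X ⟶ Y)

theorem isGeomPtIntegralAt_of_etale [Etale f] (x : X) :
    FBase.IsGeomPtIntegralAt (f.fiberToSpecResidueField (f x)) (f.asFiber x) := by
  intro K _ _ x' _
  haveI : Etale (f.fiberToSpecResidueField (f x)) := MorphismProperty.pullback_snd _ _ ‹_›
  haveI : Etale (FBase.bcStr (f.fiberToSpecResidueField (f x)) K) := MorphismProperty.pullback_snd _ _ ‹_›
  exact isDomain_stalk_of_etale_field (FBase.bcStr (f.fiberToSpecResidueField (f x)) K) x'

/-- Points of a fibre of a locally quasi-finite morphism do not specialize to each other. -/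
theorem eq_of_specializes_of_same_image [LocallyQuasiFinite f] {a b : X} (h : a ⤳ b) (he : f a = f b) : a = b := by
  have hd := (f.isDiscrete_preimage_singleton (f b)).to_subtype
  have hs : (⟨a, he⟩ : ↥(f ⁻¹' {f b})) ⤳ ⟨b, rfl⟩ := Topology.IsInducing.subtypeVal.specializes_iff.mp h
  exact congrArg Subtype.val hs.eq

/-- An étale scheme over a geometrically unibranch base has one component through each point. -/
theorem eq_of_components_etale [IsLocallyNoetherian Y] [Etale f] (x : X)
    (hy : CAlg2.IsGeomUnibranch (Y.presheaf.stalk (f x)))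
    {ξ ξ' : X} (hξ : closure {ξ} ∈ irreducibleComponents (X : Type u)) (hξx : ξ ⤳ x)
    (hξ' : closure {ξ'} ∈ irreducibleComponents (X : Type u)) (hξ'x : ξ' ⤳ x) : ξ = ξ' := by
  have hint := isGeomPtIntegralAt_of_etale f x
  have hopen : ∀ z : ↥(f.fiber (f x)), f.asFiber x ∈ closure {z} →
      (∀ z' : ↥(f.fiber (f x)), z ∈ closure {z'} → z' = z) →
      EGA43.IsUnivOpenAt f ((f.fiberι (f x)) z) := by
    intro z _ _ Y' g x' _ U hU
    have ho : IsOpenMap (pullback.snd f g).base := (pullback.snd f g).isOpenMap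
    obtain ⟨V, hVU, hV, hxV⟩ := mem_nhds_iff.mp hU
    exact Filter.mem_of_superset ((ho V hV).mem_nhds ⟨x', hxV, rfl⟩) (Set.image_mono hVU)
  haveI := isDomain_fiber_stalk f x hint
  have hequi : EGA43.IsEquidimAt f x := by
    refine Groth.Agent.S3409.result f x hopen (isGeomReducedAt_of_integral f x hint) ?_
    obtain ⟨e, he⟩ := exists_fibreClosureDim_eq_nat f x
    refine ⟨e, fun Z hZ hxZ => ?_⟩
    obtain ⟨w, hw⟩ := QuasiSober.sober hZ.1 (isClosed_of_mem_irreducibleComponents _ hZ)
    obtain rfl : Z = closure {w} := hw.def.symm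
    obtain ⟨h1, h2, -⟩ := isFibreMax_of_fiber f x w hxZ fun w' h =>
      FibDimLib.eq_of_specializes_of_closure_mem hZ (specializes_iff_mem_closure.mpr h)
    haveI := WeightLib.locallyQuasiFinite_of_etale f
    rw [← fibreClosureDim_fiberι, eq_of_specializes_of_same_image f h2 h1, he]
  exact eq_of_components f x hopen hint hy hequi hξ hξx hξ' hξ'x

end GeomIntLib
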